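import Cfsg.Agent.Lib.InvClasses.Rules

/-!
A checker for reduction certificates of involutions.
-/

set_option autoImplicit false

namespace CfsgLib.InvClasses

open CfsgLib.Chevalley CfsgLib.Chevalley.Tbl

/-- A move between products of commuting root elements. -/
inductive Move
  | w (i : ℕ)
  | x (r : ℕ)

/-- The reduction applied at a state; the last numbers are the indices of the child states. -/
inductive Rule
  | leaf (path : List Move)
  | kill (a r p : ℕ) (c : ℕ)
  | sq (a p b : ℕ) (N : List ℕ) (c : ℕ)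
  | split (a : ℕ) (v : List ℤ) (c₀ c₁ : ℕ)

/-- A state with its rule. -/
structure Node where
  M : List ℕ
  L : List ℕ
  rule : Rule

/-- Toggle a root in a sorted list. -/
def ins (v : ℕ) : List ℕ → List ℕ
  | [] => [v]
  | w :: L => bif Nat.blt v w then v :: w :: L else bif Nat.beq v w then L else w :: ins v L

/-- The sorted list of the roots of odd multiplicity. -/
def norm (L : List ℕ) : List ℕ := L.foldr ins []

variable (T : Tbl) (D : ℕ → ℕ → List (ℕ × ℕ × ℕ))

/-- The roots commute exactly. -/
def allComm (L : List ℕ) : Bool :=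
  L.all fun a => Nat.blt a T.n && L.all fun b => pairOK T D [] a b

/-- The roots of the conjugate by `x_r(1)`. -/
def moveX (r : ℕ) (L : List ℕ) : List ℕ :=
  L.flatMap fun m => bif Nat.beq m r then [m] else m :: (D r m).map fun c => c.1

/-- Run a path of moves from a list to a target. -/
def runPath (reps : List (List ℕ)) : List ℕ → List Move → Bool
  | L, [] => L.isEmpty || reps.any fun R => decide (R = L)
  | L, .w i :: ps =>
    Nat.blt i T.rank && allComm T D (L.map (T.refl i)) && runPath reps (norm (L.map (T.refl i))) ps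
  | L, .x r :: ps =>
    Nat.blt r T.n && (L.all fun m => !(Nat.beq m (T.neg r))) && allComm T D (moveX D r L) &&
      runPath reps (norm (moveX D r L)) ps

/-- The child at index `c` is the given state. -/
def childOK (get : ℕ → Node) (k c : ℕ) (M L : List ℕ) : Bool :=
  Nat.blt c k && decide ((get c).M = M) && decide ((get c).L = L)

/-- One step of the certificate. -/
def chkNode (reps : List (List ℕ)) (get : ℕ → Node) (k : ℕ) : Bool :=
  let nd := get k
  let M := nd.M
  let L := nd.L
  (M.all fun v => Nat.ble T.half v && Nat.blt v T.n) && (L.all fun v => Nat.ble T.half v && Nat.blt v T.n) &&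
  match nd.rule with
  | .leaf ps => L.isEmpty && allComm T D M && runPath T D reps (norm M) ps
  | .kill a r p c =>
    let L' := L.erase a
    let A := M.take p
    let B := M.drop (p + 1)
    let m0 := M.getD p 0
    Nat.blt p M.length && Nat.blt r T.n && mem L a && childOK get k c M L' &&
      nrm T D (r :: a :: M) L' && (A ++ B).all (fun m => pairOK T D L' r m) &&
      B.all (fun m => pairOK T D L' a m) && pairOK T D L' r a && !(Nat.beq m0 r) &&
      !(Nat.beq m0 (T.neg r)) &&
      (match (D r m0).filter (fun c => !(mem L' c.1)) with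
        | [(v, i, _)] => Nat.beq v a && (Nat.beq i 1 || Nat.beq i 2)
        | _ => false)
  | .sq a p b N c =>
    let L' := L.erase a
    let A := M.take p
    let B := M.drop (p + 1)
    let m0 := M.getD p 0
    let G := a :: (M ++ L')
    Nat.blt p M.length && mem L a && Nat.ble T.half b && Nat.blt b T.n && !(mem N b) &&
      childOK get k c M L' && nrm T D [a] L' && nrm T D (b :: G) N && nrm T D N N &&
      (N.all fun v => Nat.ble T.half v && Nat.blt v T.n) &&
      (A ++ B ++ L').all (fun s => G.all fun g => pairOK T D N s g) &&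
      pairOK T D N b m0 && pairOK T D N b a && !(Nat.beq m0 a) && !(Nat.beq m0 (T.neg a)) &&
      (match (D a m0).filter (fun c => !(mem N c.1)) with
        | [(v, i, _)] => Nat.beq v b && !(Nat.beq i 0)
        | _ => false)
  | .split a v c₀ c₁ =>
    let L' := L.erase a
    let pr (s : ℕ) : ℤ := ((List.range T.rank).map fun i => v.getD i 0 * T.ca i s).sum
    mem L a && childOK get k c₀ M L' && childOK get k c₁ (M ++ [a]) L' && nrm T D [a] L' &&
      (M.all fun m => decide (pr m = 0)) && [1, 2, 4, 8].any (fun t => Nat.beq (pr a).natAbs t)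

variable {T : Tbl} {D : ℕ → ℕ → List (ℕ × ℕ × ℕ)} {F : Type*} [Field F]
variable (hT : T.Valid) (hC : T.chkComm = true) (hD : Odd2 T D) [CharP F 2]
include hT hC hD

theorem allComm_facts {L : List ℕ} (h : allComm T D L = true) :
    (∀ a ∈ L, a < T.n) ∧ ∀ a ∈ L, ∀ b ∈ L, Commute (T.xU F a (1 : F)) (T.xU F b 1) := by
  simp only [allComm, List.all_eq_true, Bool.and_eq_true] at h
  have hlt : ∀ a ∈ L, a < T.n := fun a ha => Nat.le_of_ble_eq_true (h a ha).1
  refine ⟨hlt, fun a ha b hb => ?_⟩
  have hp := (h a ha).2 b hb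
  by_cases hab : b = a
  · subst hab; exact Commute.refl _
  simp only [pairOK, Bool.or_eq_true, Bool.and_eq_true, Bool.not_eq_true', List.all_eq_true] at hp
  obtain ⟨hne, hc⟩ := hp.resolve_left fun e => hab (Nat.eq_of_beq_eq_true e)
  have hne' : b ≠ T.neg a := fun e => by rw [e, Nat.beq_refl] at hne; cases hne
  have hnil : D a b = [] := List.eq_nil_iff_forall_not_mem.mpr fun c hc' => by
    simpa [mem] using hc c hc'
  have := comm2 hT hC hD (F := F) (hlt a ha) (hlt b hb) hab hne' 1 1
  rw [hnil, List.map_nil, List.prod_nil, mul_one] at this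
  exact this.symm

theorem eL_ins {S : List ℕ} (hS : allComm T D S = true) {v : ℕ} (hv : v ∈ S) :
    ∀ L : List ℕ, (∀ u ∈ L, u ∈ S) →
      (∀ u ∈ ins v L, u ∈ S) ∧ eL T F (ins v L) = T.xU F v 1 * eL T F L := by
  obtain ⟨hlt, hc⟩ := allComm_facts (F := F) hT hC hD hS
  intro L
  induction L with
  | nil => intro _; exact ⟨by simpa [ins] using hv, by simp [ins, eL]⟩
  | cons w L ih =>
    intro hL
    obtain ⟨h1, h2⟩ := ih fun u hu => hL u (List.mem_cons_of_mem _ hu)
    rw [ins]
    cases hb : Nat.blt v w with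
    | true =>
      simp only [cond_true]
      exact ⟨fun u hu => by
        rcases List.mem_cons.mp hu with rfl | hu
        · exact hv
        · exact hL u hu, by rw [eL_cons]⟩
    | false =>
      simp only [cond_false]
      cases he : Nat.beq v w with
      | true =>
        obtain rfl := Nat.eq_of_beq_eq_true he
        simp only [cond_true]
        exact ⟨fun u hu => hL u (List.mem_cons_of_mem _ hu),
          by rw [eL_cons, ← mul_assoc, xU_sq hT (hlt v hv), one_mul]⟩
      | false =>
        simp only [cond_false]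
        refine ⟨fun u hu => ?_, ?_⟩
        · rcases List.mem_cons.mp hu with rfl | hu
          · exact hL u List.mem_cons_self
          · exact h1 u hu
        · rw [eL_cons, h2, eL_cons, ← mul_assoc, ← mul_assoc, (hc w (hL w List.mem_cons_self) v hv).eq]

theorem eL_norm {S : List ℕ} (hS : allComm T D S = true) :
    ∀ L : List ℕ, (∀ u ∈ L, u ∈ S) → (∀ u ∈ norm L, u ∈ S) ∧ eL T F (norm L) = eL T F L := by
  intro L
  induction L with
  | nil => intro _; simp [norm]
  | cons w L ih =>
    intro hL
    obtain ⟨h1, h2⟩ := ih fun u hu => hL u (List.mem_cons_of_mem _ hu)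
    obtain ⟨h3, h4⟩ := eL_ins (F := F) hT hC hD hS (hL w List.mem_cons_self) (norm L) h1
    exact ⟨h3, show eL T F (ins w (norm L)) = _ by rw [h4, h2, eL_cons]⟩

omit hC hD in
theorem move_w {i : ℕ} (hi : i < T.rank) : ∀ L : List ℕ, (∀ u ∈ L, u < T.n) →
    T.nU F (T.simple i) 1 * eL T F L = eL T F (L.map (T.refl i)) * T.nU F (T.simple i) 1 := by
  intro L
  induction L with
  | nil => intro _; simp [eL]
  | cons m L ih =>
    intro hL
    have hm := hL m List.mem_cons_self
    have he : (T.eta i m : F) = 1 := by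
      rcases eta_sq hT hi hm with h | h <;> rw [h] <;> simp [CharTwo.neg_eq]
    rw [List.map_cons, eL_cons, eL_cons, ← mul_assoc, nU_simple_xU hT hi hm, he, one_mul, mul_assoc,
      ih fun u hu => hL u (List.mem_cons_of_mem _ hu), mul_assoc]

theorem move_x {r : ℕ} (hr : r < T.n) : ∀ L : List ℕ, (∀ u ∈ L, u < T.n ∧ u ≠ T.neg r) →
    eL T F L * T.xU F r (1 : F) = T.xU F r 1 * eL T F (moveX D r L) := by
  intro L
  induction L with
  | nil => intro _; simp [eL, moveX]
  | cons m L ih =>
    intro hL
    obtain ⟨hm, hn⟩ := hL m List.mem_cons_self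
    have hstep : T.xU F m (1 : F) * T.xU F r 1 = T.xU F r 1 *
        eL T F (bif Nat.beq m r then [m] else m :: (D r m).map fun c => c.1) := by
      cases he : Nat.beq m r with
      | true =>
        obtain rfl := Nat.eq_of_beq_eq_true he
        simp [eL]
      | false =>
        have hne : m ≠ r := fun e => by rw [e, Nat.beq_refl] at he; cases he
        rw [cond_false, comm2 hT hC hD hr hm hne hn, eL_cons, mul_assoc]
        simp [eL, List.map_map, Function.comp_def]
    rw [show moveX D r (m :: L) =
      (bif Nat.beq m r then [m] else m :: (D r m).map fun c => c.1) ++ moveX D r L from rfl,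
      eL_cons, mul_assoc, ih fun u hu => hL u (List.mem_cons_of_mem _ hu), ← mul_assoc, hstep,
      eL_append, mul_assoc]

theorem runPath_good {reps : List (List ℕ)} : ∀ (ps : List Move) (L : List ℕ),
    (∀ u ∈ L, u < T.n) → runPath T D reps L ps = true → Good T F reps (eL T F L) := by
  intro ps
  induction ps with
  | nil =>
    intro L _ h
    simp only [runPath, Bool.or_eq_true, List.any_eq_true, decide_eq_true_eq] at h
    rcases h with h | ⟨R, hR, rfl⟩
    · exact Or.inl (by rw [List.isEmpty_iff.mp h, eL_nil])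
    · exact Or.inr ⟨_, hR, 1, one_mem _, by simp⟩
  | cons p ps ih =>
    intro L hL h
    cases p with
    | w i =>
      simp only [runPath, Bool.and_eq_true] at h
      obtain ⟨⟨hi, hc⟩, hrun⟩ := h
      have hi' : i < T.rank := Nat.le_of_ble_eq_true hi
      obtain ⟨hs, he⟩ := eL_norm (F := F) hT hC hD hc _ fun u hu => hu
      have hlt := (allComm_facts (F := F) hT hC hD hc).1
      refine good_conj (nU_mem_group hT (simple_lt hT hi') 1) (move_w hT hi' L hL) ?_
      rw [← he]
      exact ih _ (fun u hu => hlt u (hs u hu)) hrun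
    | x r =>
      simp only [runPath, Bool.and_eq_true, List.all_eq_true, Bool.not_eq_true'] at h
      obtain ⟨⟨⟨hr, hn⟩, hc⟩, hrun⟩ := h
      have hr' : r < T.n := Nat.le_of_ble_eq_true hr
      obtain ⟨hs, he⟩ := eL_norm (F := F) hT hC hD hc _ fun u hu => hu
      have hlt := (allComm_facts (F := F) hT hC hD hc).1
      have hmv := move_x (F := F) hT hC hD hr' L fun u hu =>
        ⟨hL u hu, fun e => by have := hn u hu; rw [e, Nat.beq_refl] at this; cases this⟩
      refine good_conj (inv_mem (xU_mem_group hT hr' (1 : F)))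
        (x' := eL T F (moveX D r L)) ?_ ?_
      · rw [inv_mul_eq_iff_eq_mul, ← mul_assoc, ← hmv, mul_inv_cancel_right]
      · rw [← he]
        exact ih _ (fun u hu => hlt u (hs u hu)) hrun

theorem pt_leaf {reps : List (List ℕ)} {M : List ℕ} {ps : List Move} (hM : allComm T D M = true)
    (h : runPath T D reps (norm M) ps = true) : Pt T F reps M [] := by
  intro z hz _
  have hle : U T F [] ≤ ⊥ := rootGen_le fun r _ h => absurd h List.not_mem_nil
  have hz1 : z = 1 := Subgroup.mem_bot.mp (hle hz)
  subst hz1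
  obtain ⟨hs, he⟩ := eL_norm (F := F) hT hC hD hM M fun u hu => hu
  rw [mul_one, ← he]
  exact runPath_good hT hC hD ps _ (fun u hu => (allComm_facts (F := F) hT hC hD hM).1 u (hs u hu)) h

omit hT hC hD in
theorem take_getD_drop {M : List ℕ} {p : ℕ} (h : p < M.length) :
    M = M.take p ++ M.getD p 0 :: M.drop (p + 1) := by
  rw [List.getD_eq_getElem _ _ h, ← List.drop_eq_getElem_cons h, List.take_append_drop]

theorem pt_node [Finite F] {reps : List (List ℕ)} {get : ℕ → Node} {k : ℕ}
    (h : chkNode T D reps get k = true)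
    (ih : ∀ c < k, Pt T F reps (get c).M (get c).L) : Pt T F reps (get k).M (get k).L := by
  have hchild : ∀ {c : ℕ} {M L : List ℕ}, childOK get k c M L = true → Pt T F reps M L := by
    intro c M L hc
    simp only [childOK, Bool.and_eq_true, decide_eq_true_eq] at hc
    obtain ⟨⟨hck, rfl⟩, rfl⟩ := hc
    exact ih c (Nat.le_of_ble_eq_true hck)
  have hsub : ∀ (L : List ℕ) (a : ℕ), ∀ v ∈ L, v = a ∨ v ∈ L.erase a := fun L a v hv =>
    (em (v = a)).imp id fun hne => (List.mem_erase_of_ne hne).mpr hv
  simp only [chkNode, Bool.and_eq_true, List.all_eq_true] at h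
  obtain ⟨⟨hMp, hLp⟩, hr⟩ := h
  have hMlt : ∀ v ∈ (get k).M, v < T.n := fun v hv => Nat.le_of_ble_eq_true (hMp v hv).2
  have hLlt : ∀ v ∈ (get k).L, v < T.n := fun v hv => Nat.le_of_ble_eq_true (hLp v hv).2
  generalize (get k).M = M at *
  generalize (get k).L = L at *
  generalize (get k).rule = rule at hr
  have hbeq : ∀ {a b : ℕ}, Nat.beq a b = false → a ≠ b := fun h e => by
    rw [e, Nat.beq_refl] at h; cases h
  cases rule with
  | leaf ps =>
    simp only [Bool.and_eq_true] at hr
    rw [List.isEmpty_iff.mp hr.1.1]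
    exact pt_leaf hT hC hD hr.1.2 hr.2
  | kill a r p c =>
    simp only [Bool.and_eq_true, List.all_eq_true, Bool.not_eq_true'] at hr
    obtain ⟨⟨⟨⟨⟨⟨⟨⟨⟨⟨hp, hrn⟩, ha⟩, hc⟩, hn⟩, hA⟩, hB⟩, hra⟩, hne⟩, hneg⟩, hm⟩ := hr
    have hp' : p < M.length := Nat.le_of_ble_eq_true hp
    have hdec := take_getD_drop hp'
    have h0 := hchild hc
    generalize M.getD p 0 = m0 at *
    generalize M.take p = A at *
    generalize M.drop (p + 1) = B at *
    subst hdec
    split at hm
    · rename_i v i j heq
      simp only [Bool.and_eq_true, Bool.or_eq_true] at hm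
      obtain ⟨hv, hi⟩ := hm
      obtain rfl := Nat.eq_of_beq_eq_true hv
      refine pt_kill hT hC hD (fun w hw => ?_) (hsub L v) hn hA hB hra (hbeq hne) (hbeq hneg) heq
        (hi.imp Nat.eq_of_beq_eq_true Nat.eq_of_beq_eq_true) h0
      rcases List.mem_cons.mp hw with rfl | hw
      · exact Nat.le_of_ble_eq_true hrn
      rcases List.mem_cons.mp hw with rfl | hw
      · exact hLlt _ (mem_iff.mp ha)
      · exact hMlt _ hw
    · cases hm
  | sq a p b N c =>
    simp only [Bool.and_eq_true, List.all_eq_true, Bool.not_eq_true'] at hr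
    obtain ⟨⟨⟨⟨⟨⟨⟨⟨⟨⟨⟨⟨⟨⟨⟨hp, ha⟩, hbp⟩, hbn⟩, hbN⟩, hc⟩, hn'⟩, hn⟩, hnn⟩, hpos⟩, hcen⟩, hbm⟩,
      hba⟩, hne⟩, hneg⟩, hm⟩ := hr
    have hp' : p < M.length := Nat.le_of_ble_eq_true hp
    have hdec := take_getD_drop hp'
    have h0 := hchild hc
    generalize M.getD p 0 = m0 at *
    generalize M.take p = A at *
    generalize M.drop (p + 1) = B at *
    subst hdec
    split at hm
    · rename_i v i j heq
      simp only [Bool.and_eq_true, Bool.not_eq_true'] at hm
      obtain ⟨hv, hi⟩ := hm
      obtain rfl := Nat.eq_of_beq_eq_true hv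
      refine pt_square hT hC hD (fun w hw => ?_) (hsub L a) hn' hn hcen hbm hba (hbeq hne) (hbeq hneg)
        heq (hbeq hi) hnn
        (fun u hu => ⟨Nat.le_of_ble_eq_true (hpos u hu).1, Nat.le_of_ble_eq_true (hpos u hu).2⟩)
        (Nat.le_of_ble_eq_true hbp) (fun e => by rw [mem_iff.mpr e] at hbN; cases hbN) h0
      rcases List.mem_cons.mp hw with rfl | hw
      · exact Nat.le_of_ble_eq_true hbn
      rcases List.mem_cons.mp hw with rfl | hw
      · exact hLlt _ (mem_iff.mp ha)
      rcases List.mem_append.mp hw with hw | hw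
      · exact hMlt _ hw
      · exact hLlt _ (List.mem_of_mem_erase hw)
    · cases hm
  | split a v c₀ c₁ =>
    simp only [Bool.and_eq_true, List.all_eq_true, List.any_eq_true, decide_eq_true_eq] at hr
    obtain ⟨⟨⟨⟨⟨ha, h0⟩, h1⟩, hn⟩, hv⟩, t, ht, hk⟩ := hr
    obtain ⟨e, rfl⟩ : ∃ e, t = 2 ^ e := by
      simp only [List.mem_cons, List.not_mem_nil, or_false] at ht
      rcases ht with rfl | rfl | rfl | rfl
      exacts [⟨0, rfl⟩, ⟨1, rfl⟩, ⟨2, rfl⟩, ⟨3, rfl⟩]
    refine pt_split hT hC hD (fun i : Fin T.rank => v.getD i 0) (fun s hs => ?_) (hsub L a) hn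
      (fun m hm => ?_) (e := e) ?_ (hchild h0) (hchild h1)
    · rcases List.mem_cons.mp hs with rfl | hs
      · exact hLlt _ (mem_iff.mp ha)
      · exact hMlt _ hs
    · exact (list_sum_range (fun i => v.getD i 0 * T.ca i m) T.rank).symm.trans (hv m hm)
    · rw [← Nat.eq_of_beq_eq_true hk]
      exact congrArg Int.natAbs (list_sum_range (fun i => v.getD i 0 * T.ca i a) T.rank).symm

theorem pt_all [Finite F] {reps : List (List ℕ)} {get : ℕ → Node} {N : ℕ}
    (h : ∀ k < N, chkNode T D reps get k = true) :
    ∀ k, k < N → Pt T F reps (get k).M (get k).L := by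
  intro k
  induction k using Nat.strong_induction_on with
  | _ k ih => exact fun hk => pt_node hT hC hD (h k hk) fun c hc => ih c hc (lt_trans hc hk)

end CfsgLib.InvClasses
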