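import Cfsg.Agent.Lib.Chevalley.RootGen
import Cfsg.Agent.Lib.Chevalley.PosProduct
import Mathlib.Algebra.CharP.Two
import Mathlib.GroupTheory.QuotientGroup.Basic
import Mathlib.Tactic.LinearCombination

/-!
Root groups in characteristic two modulo a normalised subgroup generated by root subgroups.
-/

set_option autoImplicit false

namespace CfsgLib.InvClasses

open CfsgLib.Chevalley CfsgLib.Chevalley.Tbl

/-- Membership in a list of roots. -/
def mem (N : List ℕ) (v : ℕ) : Bool := N.any fun u => Nat.beq u v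

theorem mem_iff {N : List ℕ} {v : ℕ} : mem N v = true ↔ v ∈ N := by
  simp only [mem, List.any_eq_true]
  exact ⟨fun ⟨u, hu, e⟩ => Nat.eq_of_beq_eq_true e ▸ hu, fun h => ⟨v, h, Nat.beq_refl v⟩⟩

/-- The members of a list from `k` on. -/
def geL (N : List ℕ) (k : ℕ) : List ℕ := N.filter fun s => Nat.ble k s

theorem mem_geL {N : List ℕ} {k v : ℕ} : v ∈ geL N k ↔ v ∈ N ∧ k ≤ v := by
  simp [geL, List.mem_filter]

/-- The terms with odd coefficient are the listed ones. -/
def Odd2 (T : Tbl) (D : ℕ → ℕ → List (ℕ × ℕ × ℕ)) : Prop :=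
  ∀ r < T.n, ∀ s < T.n, s ≠ r → s ≠ T.neg r →
    ((T.commT r s).filter fun c => decide (c.2.1 % 2 ≠ 0)).map
      (fun c => (c.1, c.2.2.1, c.2.2.2)) = D r s

/-- `x_g` normalises the root group of `u` modulo the roots of `N`. -/
def pairOK (T : Tbl) (D : ℕ → ℕ → List (ℕ × ℕ × ℕ)) (N : List ℕ) (g u : ℕ) : Bool :=
  Nat.beq u g || (!(Nat.beq u (T.neg g)) && (D g u).all fun c => mem N c.1)

/-- All of `G` normalises the roots of `N`. -/
def nrm (T : Tbl) (D : ℕ → ℕ → List (ℕ × ℕ × ℕ)) (G N : List ℕ) : Bool :=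
  N.all fun u => G.all fun g => pairOK T D N g u

variable {T : Tbl} {D : ℕ → ℕ → List (ℕ × ℕ × ℕ)} {F : Type*} [Field F]

theorem mono_mem {P Q : ℕ → Prop} (h : ∀ r < T.n, P r → Q r) {x : GL T.I F}
    (hx : x ∈ T.rootGen F P) : x ∈ T.rootGen F Q :=
  rootGen_mono h hx

/-- The subgroup of a list of roots. -/
abbrev U (T : Tbl) (F : Type*) [Field F] (N : List ℕ) : Subgroup (GL T.I F) := T.rootGen F (· ∈ N)

theorem prod_odd (hT : T.Valid) [CharP F 2] : ∀ (l : List (ℕ × ℤ × ℕ × ℕ)),
    (∀ c ∈ l, c.1 < T.n) → ∀ u t : F,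
    (l.map fun c => T.xU F c.1 ((c.2.1 : F) * (-t) ^ c.2.2.1 * u ^ c.2.2.2)).prod =
      ((((l.filter fun c => decide (c.2.1 % 2 ≠ 0)).map fun c => (c.1, c.2.2.1, c.2.2.2))).map
        fun c => T.xU F c.1 (t ^ c.2.1 * u ^ c.2.2)).prod := by
  intro l
  induction l with
  | nil => simp
  | cons c l ih =>
    intro hl u t
    have hc := hl c List.mem_cons_self
    rw [List.map_cons, List.prod_cons, ih (fun d hd => hl d (List.mem_cons_of_mem _ hd))]
    by_cases h : c.2.1 % 2 = 0
    · rw [List.filter_cons_of_neg (by simp [h]), (CharP.intCast_eq_zero_iff F 2 _).mpr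
        (Int.dvd_of_emod_eq_zero h), zero_mul, zero_mul, xU_zero hT hc, one_mul]
    · have h1 : (c.2.1 : F) = 1 := by
        obtain ⟨k, hk⟩ : ∃ k, c.2.1 = 2 * k + 1 := ⟨c.2.1 / 2, by omega⟩
        rw [hk]; push_cast; linear_combination (k : F) * CharTwo.two_eq_zero (R := F)
      rw [List.filter_cons_of_pos (by simp [h]), List.map_cons, List.map_cons, List.prod_cons, h1,
        CharTwo.neg_eq, one_mul]

variable (hT : T.Valid) (hC : T.chkComm = true) (hD : Odd2 T D)
include hT hC hD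

theorem D_lt {r s : ℕ} (hr : r < T.n) (hs : s < T.n) (hne : s ≠ r) (hneg : s ≠ T.neg r) :
    ∀ c ∈ D r s, c.1 < T.n := by
  intro c hc
  rw [← hD r hr s hs hne hneg, List.mem_map] at hc
  obtain ⟨d, hd, rfl⟩ := hc
  exact commT_lt hT hr hs d (List.mem_of_mem_filter hd)

theorem comm2 [CharP F 2] {r s : ℕ} (hr : r < T.n) (hs : s < T.n) (hne : s ≠ r) (hneg : s ≠ T.neg r)
    (t u : F) : T.xU F s u * T.xU F r t = T.xU F r t * T.xU F s u *
      ((D r s).map fun c => T.xU F c.1 (t ^ c.2.1 * u ^ c.2.2)).prod := by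
  rw [comm_xU hT hC hr hs hne hneg, prod_odd hT _ (fun c hc => commT_lt hT hr hs c hc),
    hD r hr s hs hne hneg]

theorem xU_mem_nz [CharP F 2] {N : List ℕ} {g : ℕ} (hg : g < T.n)
    (h : N.all (fun u => pairOK T D N g u) = true) (t : F) :
    T.xU F g t ∈ Subgroup.normalizer (U T F N : Set (GL T.I F)) := by
  have key : ∀ a : F, ∀ z ∈ U T F N, (T.xU F g a)⁻¹ * z * T.xU F g a ∈ U T F N := by
    intro a z hz
    induction hz using Subgroup.closure_induction with
    | mem x hx =>
      obtain ⟨s, hs, hP, u, rfl⟩ := hx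
      have hp := List.all_eq_true.mp h s hP
      simp only [pairOK, Bool.or_eq_true, Bool.and_eq_true, Bool.not_eq_true', List.all_eq_true] at hp
      by_cases hsg : s = g
      · subst hsg
        rw [xU_inv hT hg, xU_add hT hg, xU_add hT hg]
        exact xU_mem_rootGen hg hP _
      obtain ⟨hn, hc⟩ := hp.resolve_left fun e => hsg (Nat.eq_of_beq_eq_true e)
      have hn' : s ≠ T.neg g := fun e => by rw [e, Nat.beq_refl] at hn; cases hn
      rw [mul_assoc, comm2 hT hC hD hg hs hsg hn', ← mul_assoc, ← mul_assoc, inv_mul_cancel, one_mul]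
      refine mul_mem (xU_mem_rootGen hs hP u) (list_prod_mem fun y hy => ?_)
      obtain ⟨c, hc', rfl⟩ := List.mem_map.mp hy
      exact xU_mem_rootGen (P := (· ∈ N)) (D_lt hT hC hD hg hs hsg hn' c hc') (mem_iff.mp (hc c hc')) _
    | one => simp
    | mul x y _ _ hx hy => simpa [mul_assoc] using mul_mem hx hy
    | inv x _ hx => simpa [mul_assoc] using inv_mem hx
  refine Subgroup.mem_normalizer_iff.mpr fun z => ⟨fun hz => ?_, fun hz => ?_⟩
  · have := key (-t) z hz
    rwa [← xU_inv hT hg, inv_inv] at this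
  · have := key t _ hz
    simpa [mul_assoc] using this

theorem nrm_mem_nz [CharP F 2] {G N : List ℕ} (h : nrm T D G N = true) {g : ℕ} (hgG : g ∈ G)
    (hg : g < T.n) (t : F) : T.xU F g t ∈ Subgroup.normalizer (U T F N : Set (GL T.I F)) :=
  xU_mem_nz hT hC hD hg (List.all_eq_true.mpr fun u hu =>
    List.all_eq_true.mp (List.all_eq_true.mp h u hu) g hgG) t

omit hT hC hD in
/-- The normaliser modulo the subgroup of the roots of `N`. -/
abbrev Qt (T : Tbl) (F : Type*) [Field F] (N : List ℕ) :=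
  ↥(Subgroup.normalizer (U T F N : Set (GL T.I F))) ⧸
    (U T F N).subgroupOf (Subgroup.normalizer (U T F N : Set (GL T.I F)))

omit hT hC hD in
open Classical in
/-- The image of an element, junk outside the normaliser. -/
noncomputable def q (N : List ℕ) (x : GL T.I F) : Qt T F N :=
  if h : x ∈ Subgroup.normalizer (U T F N : Set (GL T.I F)) then QuotientGroup.mk ⟨x, h⟩ else 1

omit hT hC hD in
theorem q_mul {N : List ℕ} {x y : GL T.I F}
    (hx : x ∈ Subgroup.normalizer (U T F N : Set (GL T.I F)))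
    (hy : y ∈ Subgroup.normalizer (U T F N : Set (GL T.I F))) : q N (x * y) = q N x * q N y := by
  rw [q, q, q, dif_pos (mul_mem hx hy), dif_pos hx, dif_pos hy]
  rfl

omit hT hC hD in
theorem q_one {N : List ℕ} : q N (1 : GL T.I F) = 1 := by
  rw [q, dif_pos (one_mem _)]
  rfl

omit hT hC hD in
theorem q_eq_one_iff {N : List ℕ} {x : GL T.I F}
    (hx : x ∈ Subgroup.normalizer (U T F N : Set (GL T.I F))) : q N x = 1 ↔ x ∈ U T F N := by
  rw [q, dif_pos hx, QuotientGroup.eq_one_iff, Subgroup.mem_subgroupOf]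

omit hT hC hD in
theorem q_inv {N : List ℕ} {x : GL T.I F}
    (hx : x ∈ Subgroup.normalizer (U T F N : Set (GL T.I F))) : q N x⁻¹ = (q N x)⁻¹ := by
  rw [q, q, dif_pos (inv_mem hx), dif_pos hx]
  rfl

omit hC hD in
theorem q_xU_self {N : List ℕ} {a : ℕ} (ha : a < T.n) (haN : a ∈ N) (t : F) :
    q N (T.xU F a t) = 1 :=
  (q_eq_one_iff (Subgroup.le_normalizer (xU_mem_rootGen (P := (· ∈ N)) ha haN t))).mpr
    (xU_mem_rootGen (P := (· ∈ N)) ha haN t)

/-- Two roots commute modulo `N`. -/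
theorem q_comm [CharP F 2] {N : List ℕ} {r s : ℕ} (hr : r < T.n) (hs : s < T.n)
    (h : pairOK T D N r s = true)
    (nr : ∀ t : F, T.xU F r t ∈ Subgroup.normalizer (U T F N : Set (GL T.I F)))
    (ns : ∀ t : F, T.xU F s t ∈ Subgroup.normalizer (U T F N : Set (GL T.I F))) (t u : F) :
    q N (T.xU F r t) * q N (T.xU F s u) = q N (T.xU F s u) * q N (T.xU F r t) := by
  by_cases hsr : s = r
  · subst hsr
    rw [← q_mul (nr t) (nr u), ← q_mul (nr u) (nr t), xU_add hT hr, xU_add hT hr, add_comm]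
  simp only [pairOK, Bool.or_eq_true, Bool.and_eq_true, Bool.not_eq_true', List.all_eq_true] at h
  obtain ⟨hn, hc⟩ := h.resolve_left fun e => hsr (Nat.eq_of_beq_eq_true e)
  have hn' : s ≠ T.neg r := fun e => by rw [e, Nat.beq_refl] at hn; cases hn
  have hP : ((D r s).map fun c => T.xU F c.1 (t ^ c.2.1 * u ^ c.2.2)).prod ∈ U T F N := by
    refine list_prod_mem fun y hy => ?_
    obtain ⟨c, hc', rfl⟩ := List.mem_map.mp hy
    exact xU_mem_rootGen (P := (· ∈ N)) (D_lt hT hC hD hr hs hsr hn' c hc') (mem_iff.mp (hc c hc')) _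
  rw [← q_mul (ns u) (nr t), comm2 hT hC hD hr hs hsr hn', q_mul (mul_mem (nr t) (ns u))
    (Subgroup.le_normalizer hP), (q_eq_one_iff (Subgroup.le_normalizer hP)).mpr hP, mul_one,
    q_mul (nr t) (ns u)]

omit hT hC hD in
theorem q_single [CharP F 2] {N : List ℕ} {b i j : ℕ} (t u : F) :
    ∀ L : List (ℕ × ℕ × ℕ), (∀ c ∈ L, c.1 < T.n) →
      (∀ c ∈ L, T.xU F c.1 (t ^ c.2.1 * u ^ c.2.2) ∈
        Subgroup.normalizer (U T F N : Set (GL T.I F))) →
      (L.filter fun c => !(mem N c.1)) = [(b, i, j)] →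
      q N ((L.map fun c => T.xU F c.1 (t ^ c.2.1 * u ^ c.2.2)).prod) =
        q N (T.xU F b (t ^ i * u ^ j)) := by
  intro L hlt hmem hL
  have key : ∀ L : List (ℕ × ℕ × ℕ), (∀ c ∈ L, c.1 < T.n) →
      (∀ c ∈ L, T.xU F c.1 (t ^ c.2.1 * u ^ c.2.2) ∈
        Subgroup.normalizer (U T F N : Set (GL T.I F))) →
      q N ((L.map fun c => T.xU F c.1 (t ^ c.2.1 * u ^ c.2.2)).prod) =
        (((L.filter fun c => !(mem N c.1)).map fun c =>
          q N (T.xU F c.1 (t ^ c.2.1 * u ^ c.2.2)))).prod := by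
    intro L
    induction L with
    | nil => intro _ _; simpa using q_one
    | cons c L ih =>
      intro hlt hmem
      have hin : (L.map fun c => T.xU F c.1 (t ^ c.2.1 * u ^ c.2.2)).prod ∈
          Subgroup.normalizer (U T F N : Set (GL T.I F)) :=
        list_prod_mem fun y hy => by
          obtain ⟨d, hd, rfl⟩ := List.mem_map.mp hy
          exact hmem d (List.mem_cons_of_mem _ hd)
      rw [List.map_cons, List.prod_cons, q_mul (hmem c List.mem_cons_self) hin,
        ih (fun d hd => hlt d (List.mem_cons_of_mem _ hd)) fun d hd => hmem d (List.mem_cons_of_mem _ hd)]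
      by_cases hcN : mem N c.1 = true
      · rw [List.filter_cons_of_neg (by simp [hcN]),
          (q_eq_one_iff (hmem c List.mem_cons_self)).mpr
            (xU_mem_rootGen (P := (· ∈ N)) (hlt c List.mem_cons_self) (mem_iff.mp hcN) _), one_mul]
      · rw [List.filter_cons_of_pos (by simpa using hcN), List.map_cons, List.prod_cons]
  rw [key L hlt hmem, hL]
  simp

/-- A commutator with a single term outside `N`. -/
theorem q_swap [CharP F 2] {N : List ℕ} {r s b i j : ℕ} (hr : r < T.n) (hs : s < T.n) (hne : s ≠ r)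
    (hneg : s ≠ T.neg r) (hL : ((D r s).filter fun c => !(mem N c.1)) = [(b, i, j)])
    (nr : ∀ t : F, T.xU F r t ∈ Subgroup.normalizer (U T F N : Set (GL T.I F)))
    (ns : ∀ t : F, T.xU F s t ∈ Subgroup.normalizer (U T F N : Set (GL T.I F)))
    (nb : ∀ t : F, T.xU F b t ∈ Subgroup.normalizer (U T F N : Set (GL T.I F))) (t u : F) :
    q N (T.xU F s u) * q N (T.xU F r t) =
      q N (T.xU F r t) * q N (T.xU F s u) * q N (T.xU F b (t ^ i * u ^ j)) := by
  have hlt : ∀ c ∈ D r s, c.1 < T.n := D_lt hT hC hD hr hs hne hneg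
  have hmem : ∀ c ∈ D r s, T.xU F c.1 (t ^ c.2.1 * u ^ c.2.2) ∈
      Subgroup.normalizer (U T F N : Set (GL T.I F)) := by
    intro c hc
    by_cases hcN : mem N c.1 = true
    · exact Subgroup.le_normalizer (xU_mem_rootGen (P := (· ∈ N)) (hlt c hc) (mem_iff.mp hcN) _)
    · have : c ∈ (D r s).filter fun c => !(mem N c.1) :=
        List.mem_filter.mpr ⟨hc, by simpa using hcN⟩
      rw [hL, List.mem_singleton] at this
      rw [this]
      exact nb _
  have hin : ((D r s).map fun c => T.xU F c.1 (t ^ c.2.1 * u ^ c.2.2)).prod ∈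
      Subgroup.normalizer (U T F N : Set (GL T.I F)) :=
    list_prod_mem fun y hy => by
      obtain ⟨d, hd, rfl⟩ := List.mem_map.mp hy
      exact hmem d hd
  rw [← q_mul (ns u) (nr t), comm2 hT hC hD hr hs hne hneg, q_mul (mul_mem (nr t) (ns u)) hin,
    q_mul (nr t) (ns u), q_single t u _ hlt hmem hL]

omit hC hD in
/-- The subgroup of a list splits off a normalising root. -/
theorem split_list {N : List ℕ} {a : ℕ} {L : List ℕ} (ha : a < T.n)
    (hsub : ∀ v ∈ L, v = a ∨ v ∈ N)
    (hn : ∀ t : F, T.xU F a t ∈ Subgroup.normalizer (U T F N : Set (GL T.I F)))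
    {z : GL T.I F} (hz : z ∈ U T F L) : ∃ c, ∃ z' ∈ U T F N, z = T.xU F a c * z' := by
  have hle : U T F L ≤ T.rootGen F (fun s => s = a) ⊔ U T F N := by
    refine rootGen_le fun s hs hsL t => ?_
    rcases hsub s hsL with h | h
    · exact Subgroup.mem_sup_left (xU_mem_rootGen (P := fun s => s = a) hs h t)
    · exact Subgroup.mem_sup_right (xU_mem_rootGen (P := (· ∈ N)) hs h t)
  have hn' : T.rootGen F (fun s => s = a) ≤ Subgroup.normalizer (U T F N : Set (GL T.I F)) :=
    rootGen_le fun s _ h t => by subst h; exact hn t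
  have := hle hz
  rw [← SetLike.mem_coe, Subgroup.coe_mul_of_left_le_normalizer_right _ _ hn'] at this
  obtain ⟨x, hx, y, hy, rfl⟩ := this
  rw [SetLike.mem_coe, rootGen_eq_singleton hT ha, mem_rootSubgroup_iff hT ha] at hx
  obtain ⟨t, rfl⟩ := hx
  exact ⟨t, y, hy, rfl⟩

set_option maxHeartbeats 400000 in
/-- A root outside a normalised list of positive roots is separated from its subgroup. -/
theorem coord_zero [CharP F 2] {N : List ℕ} (hnn : nrm T D N N = true)
    (hpos : ∀ u ∈ N, T.half ≤ u ∧ u < T.n) {b : ℕ} (hbp : T.half ≤ b) (hb : b < T.n) (hbN : b ∉ N)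
    {t : F} (h : T.xU F b t ∈ U T F N) : t = 0 := by
  have h2 : T.half + T.half = T.n := (Nat.two_mul _).symm
  suffices key : ∀ m k, k + m = T.n → T.half ≤ k →
      T.xU F b t ∈ U T F (geL N k) → t = 0 by
    exact key T.half T.half h2 le_rfl
      (mono_mem (fun r _ hr => mem_geL.mpr ⟨hr, (hpos r hr).1⟩) h)
  intro m
  induction m with
  | zero =>
    intro k hk _ hmem
    refine xU_mem_ge_succ hT hbp hb (mono_mem (fun r hr h' => ?_) hmem)
    have := (mem_geL.mp h').2
    omega
  | succ m ih =>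
    intro k hkm hk hmem
    rcases lt_or_ge b k with hbk | hbk
    · exact xU_mem_ge_succ hT hbp hb (mono_mem (fun r _ h' => Nat.lt_of_lt_of_le hbk
        ((mem_geL.mp h').2)) hmem)
    by_cases hkN : k ∈ N
    · have hkn : k < T.n := (hpos k hkN).2
      have hbk' : b ≠ k := fun e => hbN (e ▸ hkN)
      have hn : ∀ s : F, T.xU F k s ∈ Subgroup.normalizer
          (U T F (geL N (k + 1)) : Set (GL T.I F)) := by
        refine fun s => xU_mem_nz hT hC hD hkn (List.all_eq_true.mpr fun u hu => ?_) s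
        obtain ⟨huN, huk'⟩ := mem_geL.mp hu
        have hp := List.all_eq_true.mp (List.all_eq_true.mp hnn u huN) k hkN
        simp only [pairOK, Bool.or_eq_true, Bool.and_eq_true, Bool.not_eq_true',
          List.all_eq_true] at hp ⊢
        obtain ⟨hne, hc⟩ := hp.resolve_left fun e => by have := Nat.eq_of_beq_eq_true e; omega
        have hne' : u ≠ T.neg k := fun e => by rw [e, Nat.beq_refl] at hne; cases hne
        refine Or.inr ⟨hne, fun c hc' => mem_iff.mpr
          (mem_geL.mpr ⟨mem_iff.mp (hc c hc'), ?_⟩)⟩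
        rw [← hD k hkn u (hpos u huN).2 (by omega) hne', List.mem_map] at hc'
        obtain ⟨d, hd, rfl⟩ := hc'
        exact (commT_gt hT hkn (hpos u huN).2 hk (hpos u huN).1 d (List.mem_of_mem_filter hd)).1
      obtain ⟨c, z, hz, e⟩ := split_list hT (N := geL N (k + 1)) hkn
        (fun v hv => by
          obtain ⟨hvN, hvk⟩ := mem_geL.mp hv
          rcases Nat.lt_or_ge k v with h' | h'
          · exact Or.inr (mem_geL.mpr ⟨hvN, h'⟩)
          · exact Or.inl (le_antisymm h' hvk)) hn hmem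
      refine ih (k + 1) (by omega) (by omega) ?_
      have hge : ∀ {y : GL T.I F}, y ∈ U T F (geL N (k + 1)) →
          y ∈ T.rootGen F (fun s => k + 1 ≤ s) := fun hy =>
        mono_mem (fun r _ h' => (mem_geL.mp h').2) hy
      have hx : T.xU F b t ∈ T.rootGen F (fun s => k + 1 ≤ s) :=
        xU_mem_rootGen (P := fun s => k + 1 ≤ s) hb (by omega) t
      have e' : T.xU F k 0 * T.xU F b t = T.xU F k c * z := by rw [xU_zero hT hkn, one_mul, e]
      rw [(xU_mul_inj hT hC hk hkn hx (hge hz) e').2]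
      exact hz
    · refine ih (k + 1) (by omega) (by omega) (mono_mem (fun r _ h' => ?_) hmem)
      obtain ⟨hrN, hrk⟩ := mem_geL.mp h'
      have hne : r ≠ k := fun e => hkN (e ▸ hrN)
      exact mem_geL.mpr ⟨hrN, by omega⟩

end CfsgLib.InvClasses
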