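import Cfsg.Agent.Lib.InvClasses.Mod2
import Cfsg.Agent.Lib.Chevalley.BN
import Cfsg.Agent.Lib.Chevalley.NSimple
import Mathlib.FieldTheory.Finite.Basic

/-!
Reduction rules for involutions in the positive unipotent subgroup in characteristic two.
-/

set_option autoImplicit false

namespace CfsgLib.InvClasses

open CfsgLib.Chevalley CfsgLib.Chevalley.Tbl

variable {T : Tbl} {D : ℕ → ℕ → List (ℕ × ℕ × ℕ)} {F : Type*} [Field F]

/-- The product of the root elements `x_m(1)` of a list. -/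
noncomputable def eL (T : Tbl) (F : Type*) [Field F] (M : List ℕ) : GL T.I F :=
  (M.map fun m => T.xU F m 1).prod

theorem eL_append (A B : List ℕ) : eL T F (A ++ B) = eL T F A * eL T F B := by simp [eL]

theorem eL_cons (m : ℕ) (B : List ℕ) : eL T F (m :: B) = T.xU F m 1 * eL T F B := by simp [eL]

theorem eL_nil : eL T F [] = 1 := by simp [eL]

/-- Trivial or conjugate in the group to the product of one of the target lists. -/
def Good (T : Tbl) (F : Type*) [Field F] (reps : List (List ℕ)) (x : GL T.I F) : Prop :=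
  x = 1 ∨ ∃ R ∈ reps, ∃ h ∈ T.datum.group F, h * x = eL T F R * h

theorem good_conj {reps : List (List ℕ)} {x x' g : GL T.I F} (hg : g ∈ T.datum.group F)
    (h : g * x = x' * g) (hx : Good T F reps x') : Good T F reps x := by
  rcases hx with rfl | ⟨R, hR, k, hk, e⟩
  · exact Or.inl (mul_left_cancel (a := g) (by rw [h, one_mul, mul_one]))
  · exact Or.inr ⟨R, hR, k * g, mul_mem hk hg, by rw [mul_assoc, h, ← mul_assoc, e, mul_assoc]⟩

theorem sq_conj {x x' g : GL T.I F} (h : g * x = x' * g) (hx : x * x = 1) : x' * x' = 1 := by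
  have e : g * x * g⁻¹ = x' := by rw [h, mul_inv_cancel_right]
  rw [← e, conj_mul, hx, mul_one, mul_inv_cancel]

/-- Every involution in `e(M) U(L)` is good. -/
def Pt (T : Tbl) (F : Type*) [Field F] (reps : List (List ℕ)) (M L : List ℕ) : Prop :=
  ∀ z ∈ U T F L, (eL T F M * z) * (eL T F M * z) = 1 → Good T F reps (eL T F M * z)

theorem eL_mem_nz {N : List ℕ} {M : List ℕ}
    (h : ∀ m ∈ M, T.xU F m 1 ∈ Subgroup.normalizer (U T F N : Set (GL T.I F))) :
    eL T F M ∈ Subgroup.normalizer (U T F N : Set (GL T.I F)) :=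
  list_prod_mem fun y hy => by obtain ⟨m, hm, rfl⟩ := List.mem_map.mp hy; exact h m hm

theorem q_eL {N : List ℕ} : ∀ {M : List ℕ},
    (∀ m ∈ M, T.xU F m 1 ∈ Subgroup.normalizer (U T F N : Set (GL T.I F))) →
    q N (eL T F M) = ((M.map fun m => q N (T.xU F m 1)).prod : Qt T F N)
  | [], _ => by simpa [eL_nil] using q_one
  | m :: M, h => by
    rw [eL_cons, q_mul (h m List.mem_cons_self) (eL_mem_nz fun k hk => h k (List.mem_cons_of_mem _ hk)),
      q_eL fun k hk => h k (List.mem_cons_of_mem _ hk), List.map_cons, List.prod_cons]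

theorem commute_prod {G : Type*} [Monoid G] {g : G} {l : List G} (h : ∀ y ∈ l, Commute g y) :
    Commute g l.prod :=
  Commute.list_prod_right l g h

theorem pow_two_pow_surjective [Finite F] [CharP F 2] (e : ℕ) (c : F) : ∃ u : F, u ^ 2 ^ e = c := by
  induction e generalizing c with
  | zero => exact ⟨c, by simp⟩
  | succ e ih =>
    have := Fintype.ofFinite F
    obtain ⟨y, hy⟩ := FiniteField.isSquare_of_char_two (ringChar.eq F 2) c
    obtain ⟨u, hu⟩ := ih y
    exact ⟨u, by rw [pow_succ, pow_mul, hu, pow_two, hy]⟩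

variable (hT : T.Valid) (hC : T.chkComm = true) (hD : Odd2 T D) [CharP F 2]
include hT hC hD

omit hC hD in
theorem xU_sq {r : ℕ} (hr : r < T.n) (t : F) : T.xU F r t * T.xU F r t = 1 := by
  rw [xU_add hT hr, CharTwo.add_self_eq_zero, xU_zero hT hr]

omit hC hD in
theorem q_sq {N : List ℕ} {r : ℕ} (hr : r < T.n) (t : F)
    (h : T.xU F r t ∈ Subgroup.normalizer (U T F N : Set (GL T.I F))) :
    q N (T.xU F r t) * q N (T.xU F r t) = 1 := by
  rw [← q_mul h h, xU_sq hT hr, q_one]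

/-- Removing a coordinate by conjugation with one root element. -/
theorem pt_kill [Finite F] {reps : List (List ℕ)} {A B L L' : List ℕ} {m0 a r i j : ℕ}
    (hlt : ∀ v ∈ r :: a :: (A ++ m0 :: B), v < T.n)
    (hsub : ∀ v ∈ L, v = a ∨ v ∈ L')
    (hn : nrm T D (r :: a :: (A ++ m0 :: B)) L' = true)
    (hA : ∀ m ∈ A ++ B, pairOK T D L' r m = true) (hB : ∀ m ∈ B, pairOK T D L' a m = true)
    (hra : pairOK T D L' r a = true) (hne : m0 ≠ r) (hneg : m0 ≠ T.neg r)
    (hs : ((D r m0).filter fun c => !(mem L' c.1)) = [(a, i, j)]) (hi : i = 1 ∨ i = 2)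
    (h : Pt T F reps (A ++ m0 :: B) L') : Pt T F reps (A ++ m0 :: B) L := by
  intro z hz hsq
  have nz : ∀ v ∈ r :: a :: (A ++ m0 :: B), ∀ t : F,
      T.xU F v t ∈ Subgroup.normalizer (U T F L' : Set (GL T.I F)) :=
    fun v hv t => nrm_mem_nz hT hC hD hn hv (hlt v hv) t
  have hr : r < T.n := hlt r (by simp)
  have ha : a < T.n := hlt a (by simp)
  have nr := nz r (by simp)
  have na := nz a (by simp)
  obtain ⟨c, z', hz', rfl⟩ := split_list hT ha hsub na hz
  obtain ⟨t, ht⟩ : ∃ t : F, t ^ i = c := by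
    rcases hi with rfl | rfl
    · exact ⟨c, pow_one c⟩
    · exact pow_two_pow_surjective 1 c
  have inM : ∀ {v : ℕ}, v ∈ A ++ m0 :: B → v ∈ r :: a :: (A ++ m0 :: B) := fun h => by simp [h]
  have nm : ∀ v ∈ A ++ m0 :: B, T.xU F v 1 ∈ Subgroup.normalizer (U T F L' : Set (GL T.I F)) :=
    fun v hv => nz v (inM hv) 1
  have ne : eL T F (A ++ m0 :: B) ∈ Subgroup.normalizer (U T F L' : Set (GL T.I F)) := eL_mem_nz nm
  have nz' : z' ∈ Subgroup.normalizer (U T F L' : Set (GL T.I F)) := Subgroup.le_normalizer hz'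
  obtain ⟨x, hx⟩ : ∃ x, x = eL T F (A ++ m0 :: B) * (T.xU F a c * z') := ⟨_, rfl⟩
  rw [← hx] at hsq ⊢
  have nx : x ∈ Subgroup.normalizer (U T F L' : Set (GL T.I F)) := hx ▸ mul_mem ne (mul_mem (na c) nz')
  have hqx : q L' x = q L' (eL T F (A ++ m0 :: B)) * q L' (T.xU F a c) := by
    rw [hx, q_mul ne (mul_mem (na c) nz'), q_mul (na c) nz', (q_eq_one_iff nz').mpr hz', mul_one]
  have cA : ∀ m ∈ A ++ B, Commute (q L' (T.xU F r t)) (q L' (T.xU F m 1)) := fun m hm =>
    q_comm hT hC hD hr (hlt m (inM (by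
      rcases List.mem_append.mp hm with h | h <;> simp [h]))) (hA m hm) nr
      (nz m (inM (by rcases List.mem_append.mp hm with h | h <;> simp [h]))) t 1
  have cB : Commute (q L' (T.xU F a (t ^ i * 1 ^ j)))
      ((B.map fun m => q L' (T.xU F m (1 : F))).prod) :=
    commute_prod fun y hy => by
      obtain ⟨m, hm, rfl⟩ := List.mem_map.mp hy
      exact q_comm hT hC hD ha (hlt m (inM (by simp [hm]))) (hB m hm) na (nz m (inM (by simp [hm]))) _ 1
  have pA : Commute (q L' (T.xU F r t)) ((A.map fun m => q L' (T.xU F m (1 : F))).prod) :=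
    commute_prod fun y hy => by
      obtain ⟨m, hm, rfl⟩ := List.mem_map.mp hy
      exact cA m (List.mem_append_left _ hm)
  have pB : Commute (q L' (T.xU F r t)) ((B.map fun m => q L' (T.xU F m (1 : F))).prod) :=
    commute_prod fun y hy => by
      obtain ⟨m, hm, rfl⟩ := List.mem_map.mp hy
      exact cA m (List.mem_append_right _ hm)
  have hsw := q_swap hT hC hD (N := L') hr (hlt m0 (inM (by simp))) hne hneg hs nr
    (nz m0 (inM (by simp))) na t 1
  have key : q L' (eL T F (A ++ m0 :: B)) * q L' (T.xU F r t) =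
      q L' (T.xU F r t) * q L' (eL T F (A ++ m0 :: B)) * q L' (T.xU F a c) := by
    have e1 : t ^ i * (1 : F) ^ j = c := by rw [one_pow, mul_one, ht]
    rw [e1] at hsw cB
    rw [q_eL nm, List.map_append, List.map_cons, List.prod_append, List.prod_cons]
    generalize (A.map fun m => q L' (T.xU F m (1 : F))).prod = PA at pA ⊢
    generalize (B.map fun m => q L' (T.xU F m (1 : F))).prod = PB at pB cB ⊢
    calc PA * (q L' (T.xU F m0 1) * PB) * q L' (T.xU F r t)
        = PA * (q L' (T.xU F m0 1) * q L' (T.xU F r t)) * PB := by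
          simp only [mul_assoc, pB.eq]
      _ = (PA * q L' (T.xU F r t)) * q L' (T.xU F m0 1) * (q L' (T.xU F a c) * PB) := by
          rw [hsw]; simp only [mul_assoc]
      _ = _ := by rw [← pA.eq, cB.eq]; simp only [mul_assoc]
  obtain ⟨g, hg⟩ : ∃ g, g = T.xU F r t := ⟨_, rfl⟩
  have ng : g ∈ Subgroup.normalizer (U T F L' : Set (GL T.I F)) := hg ▸ nr t
  have nx' : g⁻¹ * x * g ∈ Subgroup.normalizer (U T F L' : Set (GL T.I F)) :=
    mul_mem (mul_mem (inv_mem ng) nx) ng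
  have hq : q L' (g⁻¹ * x * g) = q L' (eL T F (A ++ m0 :: B)) := by
    rw [q_mul (mul_mem (inv_mem ng) nx) ng, q_mul (inv_mem ng) nx, q_inv ng, hqx, hg, mul_assoc,
      mul_assoc, (q_comm hT hC hD hr ha hra nr na t c).symm, ← mul_assoc (q L' (eL T F (A ++ m0 :: B))),
      key, mul_assoc, mul_assoc, ← q_mul (na c) (na c), xU_sq hT ha, q_one, mul_one, inv_mul_cancel_left]
  have hmem : (eL T F (A ++ m0 :: B))⁻¹ * (g⁻¹ * x * g) ∈ U T F L' := by
    rw [← q_eq_one_iff (mul_mem (inv_mem ne) nx'), q_mul (inv_mem ne) nx', q_inv ne, hq, inv_mul_cancel]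
  have hc : g⁻¹ * x = g⁻¹ * x * g * g⁻¹ := by rw [mul_inv_cancel_right]
  have h' := h _ hmem (by rw [mul_inv_cancel_left]; exact sq_conj hc hsq)
  rw [mul_inv_cancel_left] at h'
  exact good_conj (inv_mem (hg ▸ xU_mem_group hT hr t)) hc h'

/-- A coordinate that vanishes because the element is an involution. -/
theorem pt_square {reps : List (List ℕ)} {A B L L' N : List ℕ} {m0 a b i j : ℕ}
    (hlt : ∀ v ∈ b :: a :: (A ++ m0 :: B ++ L'), v < T.n)
    (hsub : ∀ v ∈ L, v = a ∨ v ∈ L') (hn' : nrm T D [a] L' = true)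
    (hn : nrm T D (b :: a :: (A ++ m0 :: B ++ L')) N = true)
    (hcen : ∀ s ∈ A ++ B ++ L', ∀ g ∈ a :: (A ++ m0 :: B ++ L'), pairOK T D N s g = true)
    (hbm : pairOK T D N b m0 = true) (hba : pairOK T D N b a = true)
    (hne : m0 ≠ a) (hneg : m0 ≠ T.neg a)
    (hs : ((D a m0).filter fun c => !(mem N c.1)) = [(b, i, j)]) (hi : i ≠ 0)
    (hnn : nrm T D N N = true) (hpos : ∀ u ∈ N, T.half ≤ u ∧ u < T.n) (hbp : T.half ≤ b)
    (hbN : b ∉ N) (h : Pt T F reps (A ++ m0 :: B) L') : Pt T F reps (A ++ m0 :: B) L := by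
  intro z hz hsq
  have ha : a < T.n := hlt a (by simp)
  have hb : b < T.n := hlt b (by simp)
  obtain ⟨c, z', hz', rfl⟩ := split_list hT ha hsub
    (fun t => nrm_mem_nz hT hC hD hn' (List.mem_singleton_self a) ha t) hz
  suffices hc : c = 0 by
    subst hc
    rw [xU_zero hT ha, one_mul] at hsq ⊢
    exact h z' hz' hsq
  have nz : ∀ v ∈ b :: a :: (A ++ m0 :: B ++ L'), ∀ t : F,
      T.xU F v t ∈ Subgroup.normalizer (U T F N : Set (GL T.I F)) :=
    fun v hv t => nrm_mem_nz hT hC hD hn hv (hlt v hv) t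
  have up : ∀ {v : ℕ}, v ∈ a :: (A ++ m0 :: B ++ L') → v ∈ b :: a :: (A ++ m0 :: B ++ L') :=
    fun h => List.mem_cons_of_mem _ h
  have sub : ∀ {v : ℕ}, v ∈ A ++ B ++ L' → v ∈ a :: (A ++ m0 :: B ++ L') := fun h => by
    simp only [List.mem_append, List.mem_cons] at h ⊢; tauto
  let Gen (w : Qt T F N) : Prop :=
    ∀ g ∈ a :: (A ++ m0 :: B ++ L'), ∀ s : F, Commute w (q N (T.xU F g s))
  let P (v : Qt T F N) : Prop := Gen v ∧ v * v = 1 ∧ ∀ w, Gen w → Commute v w
  have P1 : P 1 := ⟨fun _ _ _ => Commute.one_left _, one_mul 1, fun w _ => Commute.one_left w⟩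
  have Pm : ∀ {u v : Qt T F N}, P u → P v → P (u * v) := by
    rintro u v ⟨u1, u2, u3⟩ ⟨v1, v2, v3⟩
    refine ⟨fun g hg s => (u1 g hg s).mul_left (v1 g hg s), ?_, fun w hw => (u3 w hw).mul_left (v3 w hw)⟩
    rw [(u3 v v1).symm.mul_mul_mul_comm, u2, v2, one_mul]
  have Pg : ∀ s ∈ A ++ B ++ L', ∀ t : F, P (q N (T.xU F s t)) := fun s hs t =>
    ⟨fun g hg u => q_comm hT hC hD (hlt s (up (sub hs))) (hlt g (up hg)) (hcen s hs g hg)
        (nz s (up (sub hs))) (nz g (up hg)) t u,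
      q_sq hT (hlt s (up (sub hs))) t (nz s (up (sub hs)) t), fun w hw => (hw s (sub hs) t).symm⟩
  have Pl : ∀ l : List ℕ, (∀ s ∈ l, s ∈ A ++ B ++ L') →
      P ((l.map fun s => q N (T.xU F s (1 : F))).prod) := by
    intro l
    induction l with
    | nil => intro _; simpa using P1
    | cons s l ih =>
      intro hl
      rw [List.map_cons, List.prod_cons]
      exact Pm (Pg s (hl s List.mem_cons_self) 1) (ih fun u hu => hl u (List.mem_cons_of_mem _ hu))
  have hz'' : z' ∈ Subgroup.normalizer (U T F N : Set (GL T.I F)) ∧ P (q N z') := by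
    clear hsq hz
    induction hz' using Subgroup.closure_induction with
    | mem y hy =>
      obtain ⟨s, hs', hP, t, rfl⟩ := hy
      exact ⟨nz s (up (sub (List.mem_append_right _ hP))) t, Pg s (List.mem_append_right _ hP) t⟩
    | one => exact ⟨one_mem _, by rw [q_one]; exact P1⟩
    | mul y y' _ _ hy hy' => exact ⟨mul_mem hy.1 hy'.1, by rw [q_mul hy.1 hy'.1]; exact Pm hy.2 hy'.2⟩
    | inv y _ hy => exact ⟨inv_mem hy.1, by rw [q_inv hy.1, inv_eq_of_mul_eq_one_right hy.2.2.1]; exact hy.2⟩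
  obtain ⟨nz', Pz⟩ := hz''
  have inM : ∀ {v : ℕ}, v ∈ A ++ m0 :: B → v ∈ b :: a :: (A ++ m0 :: B ++ L') :=
    fun h => up (List.mem_cons_of_mem _ (List.mem_append_left _ h))
  have nm : ∀ v ∈ A ++ m0 :: B, T.xU F v 1 ∈ Subgroup.normalizer (U T F N : Set (GL T.I F)) :=
    fun v hv => nz v (inM hv) 1
  have na := nz a (by simp)
  have nb := nz b (by simp)
  have nm0 := nz m0 (inM (by simp))
  have hm0 : m0 < T.n := hlt m0 (inM (by simp))
  have e0 := congrArg (q N) hsq
  rw [q_one, q_mul (mul_mem (eL_mem_nz nm) (mul_mem (na c) nz')) (mul_mem (eL_mem_nz nm) (mul_mem (na c) nz')),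
    q_mul (eL_mem_nz nm) (mul_mem (na c) nz'), q_mul (na c) nz', q_eL nm, List.map_append, List.map_cons,
    List.prod_append, List.prod_cons] at e0
  have PA := Pl A fun s hs => by simp [hs]
  have PB := Pl B fun s hs => by simp [hs]
  have hsw := q_swap hT hC hD (N := N) ha hm0 hne hneg hs na nm0 nb c 1
  have hbm' : Commute (q N (T.xU F b (c ^ i * 1 ^ j))) (q N (T.xU F m0 (1 : F))) :=
    q_comm hT hC hD hb hm0 hbm nb nm0 _ 1
  have hba' : Commute (q N (T.xU F b (c ^ i * 1 ^ j))) (q N (T.xU F a c)) :=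
    q_comm hT hC hD hb ha hba nb na _ c
  have hmm := q_sq hT hm0 (1 : F) (nm0 1)
  have haa := q_sq hT ha c (na c)
  have ma : a ∈ a :: (A ++ m0 :: B ++ L') := List.mem_cons_self
  have mm : m0 ∈ a :: (A ++ m0 :: B ++ L') := by simp
  generalize (A.map fun m => q N (T.xU F m (1 : F))).prod = PA' at e0 PA
  generalize (B.map fun m => q N (T.xU F m (1 : F))).prod = PB' at e0 PB
  generalize hw : q N z' = W at e0 Pz
  have e1 : PA' * (q N (T.xU F m0 (1 : F)) * PB') * (q N (T.xU F a c) * W) =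
      (PA' * PB' * W) * (q N (T.xU F m0 (1 : F)) * q N (T.xU F a c)) := by
    calc PA' * (q N (T.xU F m0 (1 : F)) * PB') * (q N (T.xU F a c) * W)
        = PA' * (PB' * q N (T.xU F m0 (1 : F))) * (W * q N (T.xU F a c)) := by
          rw [(PB.1 m0 mm 1).eq, (Pz.1 a ma c).eq]
      _ = PA' * PB' * (q N (T.xU F m0 (1 : F)) * W) * q N (T.xU F a c) := by simp only [mul_assoc]
      _ = _ := by rw [← (Pz.1 m0 mm 1).eq]; simp only [mul_assoc]
  obtain ⟨C1, C2, -⟩ := Pm (Pm PA PB) Pz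
  have hcC : Commute (PA' * PB' * W) (q N (T.xU F m0 (1 : F)) * q N (T.xU F a c)) :=
    (C1 m0 mm 1).mul_right (C1 a ma c)
  rw [e1, hcC.symm.mul_mul_mul_comm, C2, one_mul] at e0
  have e2 : q N (T.xU F b (c ^ i * 1 ^ j)) = 1 := by
    rw [← e0]
    generalize q N (T.xU F b (c ^ i * 1 ^ j)) = K at hsw hbm' hba' ⊢
    generalize q N (T.xU F m0 (1 : F)) = X at hsw hbm' hmm ⊢
    generalize q N (T.xU F a c) = Y at hsw hba' haa ⊢
    symm
    calc X * Y * (X * Y) = Y * X * K * (X * Y) := by rw [hsw]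
      _ = Y * (X * (K * X) * Y) := by simp only [mul_assoc]
      _ = Y * (K * Y) := by rw [hbm'.eq, ← mul_assoc X X K, hmm, one_mul]
      _ = K := by rw [hba'.eq, ← mul_assoc, haa, one_mul]
  have h3 := coord_zero hT hC hD hnn hpos hbp hb hbN ((q_eq_one_iff (nb _)).mp e2)
  rw [one_pow, mul_one] at h3
  exact (pow_eq_zero_iff hi).mp h3

/-- Splitting off a coordinate, scaled to one by the torus. -/
theorem pt_split [Finite F] {reps : List (List ℕ)} {M L L' : List ℕ} {a e : ℕ} (v : Fin T.rank → ℤ)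
    (hlt : ∀ s ∈ a :: M, s < T.n) (hsub : ∀ s ∈ L, s = a ∨ s ∈ L') (hn : nrm T D [a] L' = true)
    (hv : ∀ m ∈ M, ∑ i, v i * T.ca i m = 0) (hk : (∑ i, v i * T.ca i a).natAbs = 2 ^ e)
    (h0 : Pt T F reps M L') (h1 : Pt T F reps (M ++ [a]) L') : Pt T F reps M L := by
  intro z hz hsq
  have ha : a < T.n := hlt a (by simp)
  obtain ⟨c, z', hz', rfl⟩ := split_list hT ha hsub
    (fun t => nrm_mem_nz hT hC hD hn (List.mem_singleton_self a) ha t) hz
  by_cases hc : c = 0
  · subst hc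
    rw [xU_zero hT ha, one_mul] at hsq ⊢
    exact h0 z' hz' hsq
  obtain ⟨u, hu⟩ : ∃ u : Fˣ, ((u ^ (∑ i, v i * T.ca i a) : Fˣ) : F) = c⁻¹ := by
    rcases Int.natAbs_eq_iff.mp hk with hk' | hk'
    · obtain ⟨w, hw⟩ := pow_two_pow_surjective e c⁻¹
      have hw0 : w ≠ 0 := fun h => by
        rw [h, zero_pow (by positivity)] at hw; exact inv_ne_zero hc hw.symm
      exact ⟨Units.mk0 w hw0, by rw [hk', zpow_natCast]; exact hw⟩
    · obtain ⟨w, hw⟩ := pow_two_pow_surjective e c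
      have hw0 : w ≠ 0 := fun h => by rw [h, zero_pow (by positivity)] at hw; exact hc hw.symm
      exact ⟨Units.mk0 w hw0, by
        rw [hk', _root_.zpow_neg, zpow_natCast, Units.val_inv_eq_inv_val, Units.val_pow_eq_pow_val]
        simp [hw]⟩
  obtain ⟨χ, hχ⟩ : ∃ χ : ℕ → Fˣ, χ = fun s => ∏ i, (u ^ v i) ^ T.ca i s := ⟨_, rfl⟩
  have hchar : T.IsChar χ := hχ ▸ isChar_prod hT _
  have hval : ∀ s, χ s = u ^ ∑ i, v i * T.ca i s := fun s => by
    rw [hχ, zpow_sum_eq]
    exact Finset.prod_congr rfl fun i _ => (_root_.zpow_mul u (v i) (T.ca i s)).symm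
  have hdiag : T.dU χ ∈ T.datum.diagonalSubgroup F := (mem_diag_iff hT).mpr ⟨fun i => u ^ v i, by rw [hχ]⟩
  obtain ⟨g, hg⟩ : ∃ g : GL T.I F, g = T.dU χ := ⟨_, rfl⟩
  have hcm : Commute g (eL T F M) := commute_prod fun y hy => by
    obtain ⟨m, hm, rfl⟩ := List.mem_map.mp hy
    rw [Commute, SemiconjBy, hg, dU_conj_X hT hchar (hlt m (by simp [hm])), hval, hv m hm, zpow_zero,
      Units.val_one, one_mul]
  have hga : g * T.xU F a c = T.xU F a 1 * g := by
    rw [hg, dU_conj_X hT hchar ha, hval, hu, inv_mul_cancel₀ hc]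
  have hz'' : g * z' * g⁻¹ ∈ U T F L' :=
    (Subgroup.mem_normalizer_iff.mp (dU_mem_normalizer hT hchar (· ∈ L') |> fun h => hg ▸ h) z').mp hz'
  have hx : g * (eL T F M * (T.xU F a c * z')) = eL T F (M ++ [a]) * (g * z' * g⁻¹) * g := by
    rw [← mul_assoc, hcm.eq, mul_assoc, ← mul_assoc g, hga, eL_append, eL_cons, eL_nil, mul_one]
    group
  exact good_conj (hg ▸ diag_le_group hT hdiag) hx (h1 _ hz'' (sq_conj hx hsq))

end CfsgLib.InvClasses
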